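import Cfsg.Agent.DS.Lin.Main
import Cfsg.Agent.DS.Cl.Final
import Cfsg.Agent.DS.Lin.D4
import Cfsg.Agent.DS.Gen.SD
import Cfsg.Agent.H936.DSFour
import Cfsg.Agent.H936.DSRee
import Cfsg.Agent.H523.FpfChev
import Cfsg.Agent.H523.FpfCycFam
import Cfsg.Agent.H638.G2Link
import Cfsg.Agent.H351.SpSix.Rep
import Cfsg.Agent.S1082

/-!
# The rows decided by a representation of degree at most eight (helper54)
-/

set_option autoImplicit false

namespace Cfsg.Agent.DS.Low

open Cfsg Cfsg.Lie Cfsg.Agent.H936 Cfsg.Agent.DS Cfsg.Agent.DS.Gen Cfsg.Agent.ChevalleyStructure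

theorem ps_of_ds {G : Type} [Group G] [Finite G] {S H : Subgroup G} (hs : Setup S H) {a b : ℕ} (hd : DS a S)
    (hb : SD b S) : PS (a + b) H := by
  have := hs.normal
  refine Cl.ps_up (Q := H ⊓ S) (le_inf (Cl.dS_le _ _) ?_) inf_le_left
    (ps_of_sd (SD.of_inj (Subgroup.inclusion inf_le_right) (Subgroup.inclusion_injective _) hb))
  refine (Cl.dS_mono le_top a).trans ?_
  rw [Cl.dS_top]
  exact derivedSeries_le_of_ds hs.cent hd

theorem ds_of_cycOut {K : Type} [Group K] (h : H523.CycOut K) : DS 1 K := by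
  obtain ⟨β, h⟩ := h
  refine ds_of_subgroup (Subgroup.zpowers β) 1 (fun α => ?_) ?_
  · obtain ⟨g, k, e⟩ := h α
    exact ⟨g, _, ⟨k, rfl⟩, e⟩
  · rw [derivedSeries_comm (fun a b => (Subgroup.zpowers_isMulCommutative β).is_comm.comm a b) le_rfl, Subgroup.map_bot]
    exact bot_le

variable (F : Type) [Field F] [Finite F]

theorem sd_G2 : SD 8 ↥(chevG2.group F) :=
  SD.of_surj _ H638.G2Link.toChev_surjective
    (Lin.sd_of_gl ((G2 F).subtype.comp (H638.G2Link.toG2 F))
      ((G2 F).subtype_injective.comp H638.G2Link.toG2_injective) (n := 8) le_rfl (by simp) (by decide))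

theorem sd_D4 : SD 8 ↥(chevD4.group F) := by
  obtain ⟨e⟩ := S1082.result (F := F)
  refine SD.of_inj e.toMonoidHom e.injective (SD.of_surj _ (QuotientGroup.mk'_surjective _) ?_)
  exact Lin.sd_of_gl ((isometryGroup F _).subtype.comp (Omega F _).subtype)
    (Subtype.val_injective.comp Subtype.val_injective) (n := 8) le_rfl (by simp) (by decide)

theorem boxB2 : Cl.BoxB2 := by
  rintro big G _ _ S H hs ⟨F, _, _, -, -, ⟨e⟩⟩
  refine ps_of_ds (a := 3) (b := 6) hs (@Big.sch big S _ _ hs.simple hs.noncomm) ?_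
  refine SD.of_inj e.toMonoidHom e.injective (SD.of_surj _ (QuotientGroup.mk'_surjective _) ?_)
  exact Lin.sd_of_matrix (Matrix.symplecticGroup (Fin 2) F).subtype (fun x hx => Subtype.ext hx) (n := 4) (by norm_num)
    (by simp) (by decide)

theorem boxPSp : BoxPSp := Cl.Final.boxPSp boxB2

theorem boxOPlus : BoxOPlus := Cl.Final.boxOPlus Lin.boxD4

theorem boxSz : BoxSz := by
  rintro - G _ _ S H E r hL h
  refine ps_of_ds (a := 1) (b := 8) hL.toSetup (ds_suzuki h) ?_
  obtain ⟨F, _, _, m, -, -, ⟨e⟩⟩ := h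
  exact Lin.sd_of_gl ((Lie.Sz F _).subtype.comp e.toMonoidHom) (Subtype.val_injective.comp e.injective) (n := 4)
    (by norm_num) (by simp) (by decide)

theorem boxRee : BoxRee := by
  rintro - G _ _ S H E r hL h
  refine ps_of_ds (a := 1) (b := 8) hL.toSetup (ds_ree h) ?_
  obtain ⟨F, _, _, m, -, -, ⟨e⟩⟩ := h
  have h1 : twistedG2 F (3 ^ m) ≤ chevG2.group F := H351.SpSix.genSubgroup_le (by simp [Elts.InList]) _
  exact SD.of_inj e.toMonoidHom e.injective (SD.of_inj _ (Subgroup.inclusion_injective h1) (sd_G2 F))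

theorem boxG2 : BoxG2 := by
  rintro - G _ _ S H E r hL ⟨F, _, _, hq, ⟨e⟩⟩
  exact ps_of_ds (a := 1) (b := 8) hL.toSetup (DS.of_equiv e.symm (ds_of_cycOut (H523.Chev.cycOut_G2 hq)))
    (SD.of_inj e.toMonoidHom e.injective (sd_G2 F))

theorem box3D4 : Box3D4 := by
  rintro - G _ _ S H E r hL ⟨K, _, _, q, hq, hK, ⟨e⟩⟩
  obtain ⟨p, hp⟩ := CharP.exists K
  have : Fact p.Prime := ⟨CharP.char_is_prime K p⟩
  have h1 : twistedD4 K q ≤ chevD4.group K := H351.SpSix.genSubgroup_le (by simp [Elts.InList]) _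
  exact ps_of_ds (a := 1) (b := 8) hL.toSetup (DS.of_equiv e.symm (ds_of_cycOut (H523.TwD4.cycOut hq hK p)))
    (SD.of_inj e.toMonoidHom e.injective (SD.of_inj _ (Subgroup.inclusion_injective h1) (sd_D4 K)))

end Cfsg.Agent.DS.Low
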